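import Groth.Agent.Dual2.K366.Boot
import Groth.Agent.CurvesB.EtaleCompl
import Groth.Agent.Ega4dB.DepthOpen
import Groth.Agent.S1714
import Groth.Agent.LocCoh.K164.DimBtw
import Groth.Agent.UnramA.AdicEquiv

/-!
# Completion of the localization of the completion

`A` Noetherian, `B = A^` the `I`-adic completion, `q'` a prime of `B` containing `IB`, `q = q' ∩ A`.
Then `(A_q)^ ≃ (B_{q'})^` and `(M_q)^ ≃ ((M^)_{q'})^` for finite `M`.
-/

set_option autoImplicit false
universe u

open CategoryTheory TensorProduct

namespace K710.CplLoc

section Gen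

variable {A : Type u} [CommRing A] {B : Type u} [CommRing B] [Algebra A B]

/-- a localized base change is a base change of the localization -/
theorem exists_localized (q : Ideal A) [q.IsPrime] (q' : Ideal B) [q'.IsPrime]
    (h : q = q'.comap (algebraMap A B))
    {M : Type u} [AddCommGroup M] [Module A M] {N : Type u} [AddCommGroup N] [Module A N]
    [Module B N] [IsScalarTower A B N] (f : M →ₗ[A] N) (hf : IsBaseChange B f)
    [Algebra (Localization.AtPrime q) (Localization.AtPrime q')]
    [IsScalarTower A (Localization.AtPrime q) (Localization.AtPrime q')] :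
    ∃ (_ : Module (Localization.AtPrime q) (LocalizedModule q'.primeCompl N))
      (_ : IsScalarTower (Localization.AtPrime q) (Localization.AtPrime q')
        (LocalizedModule q'.primeCompl N))
      (g : LocalizedModule q.primeCompl M →ₗ[Localization.AtPrime q]
        LocalizedModule q'.primeCompl N),
      IsBaseChange (Localization.AtPrime q') g := by
  let R := Localization.AtPrime q
  let R' := Localization.AtPrime q'
  let m1 : Module R (LocalizedModule q'.primeCompl N) := Module.compHom _ (algebraMap R R')
  have t1 : IsScalarTower R R' (LocalizedModule q'.primeCompl N) :=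
    IsScalarTower.of_algebraMap_smul fun r x => rfl
  have t2 : IsScalarTower A B (LocalizedModule q'.primeCompl N) := inferInstance
  have t3 : IsScalarTower A R' (LocalizedModule q'.primeCompl N) :=
    IsScalarTower.of_algebraMap_smul fun r x => by
      rw [IsScalarTower.algebraMap_apply A B R', algebraMap_smul, algebraMap_smul]
  have t4 : IsScalarTower A R (LocalizedModule q'.primeCompl N) :=
    IsScalarTower.of_algebraMap_smul fun r x => by
      rw [← algebraMap_smul R' (algebraMap A R r) x, ← IsScalarTower.algebraMap_apply A R R',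
        algebraMap_smul]
  have h1 : IsBaseChange R' (LocalizedModule.mkLinearMap q'.primeCompl N) :=
    IsLocalizedModule.isBaseChange q'.primeCompl R' _
  have h2 : IsBaseChange R' ((LocalizedModule.mkLinearMap q'.primeCompl N).restrictScalars A ∘ₗ f) :=
    IsBaseChange.comp hf h1
  have h3 : IsBaseChange R (LocalizedModule.mkLinearMap q.primeCompl M) :=
    IsLocalizedModule.isBaseChange q.primeCompl R _
  let g : LocalizedModule q.primeCompl M →ₗ[R] LocalizedModule q'.primeCompl N :=
    h3.lift ((LocalizedModule.mkLinearMap q'.primeCompl N).restrictScalars A ∘ₗ f)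
  have h4 : (g.restrictScalars A) ∘ₗ (LocalizedModule.mkLinearMap q.primeCompl M) =
      (LocalizedModule.mkLinearMap q'.primeCompl N).restrictScalars A ∘ₗ f := by
    ext x
    exact h3.lift_eq _ x
  refine ⟨m1, t1, g, IsBaseChange.of_comp h3 (h := g) ?_⟩
  rw [show (g : LocalizedModule q.primeCompl M →ₗ[A] LocalizedModule q'.primeCompl N) ∘ₗ
    (LocalizedModule.mkLinearMap q.primeCompl M) =
      (LocalizedModule.mkLinearMap q'.primeCompl N).restrictScalars A ∘ₗ f from h4]
  exact h2

/-- the completions of `A_q` and `B_{q'}` agree when `A/I^n = B/I^nB` -/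
theorem exists_ringEquiv [Module.Flat A B] (I : Ideal A)
    (happ : ∀ (n : ℕ) (b : B), ∃ a : A, b - algebraMap A B a ∈ (I.map (algebraMap A B)) ^ n)
    (q : Ideal A) [q.IsPrime] (q' : Ideal B) [q'.IsPrime]
    (h : q = q'.comap (algebraMap A B)) (hI : I.map (algebraMap A B) ≤ q') :
    ∃ (_ : Algebra (Localization.AtPrime q) (Localization.AtPrime q'))
      (_ : IsScalarTower A (Localization.AtPrime q) (Localization.AtPrime q')),
      ∃ e : AdicCompletion (I.map (algebraMap A (Localization.AtPrime q))) (Localization.AtPrime q) ≃+*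
        AdicCompletion ((I.map (algebraMap A B)).map (algebraMap B (Localization.AtPrime q')))
          (Localization.AtPrime q'),
        ∀ a, e (algebraMap _ _ a) =
          algebraMap _ _ (algebraMap (Localization.AtPrime q) (Localization.AtPrime q') a) := by
  let φ : Localization.AtPrime q →+* Localization.AtPrime q' :=
    Localization.localRingHom q q' (algebraMap A B) h
  have hφ : φ.Flat := (RingHom.flat_algebraMap_iff.2 inferInstance : (algebraMap A B).Flat).localRingHom
    q' q h
  let alg : Algebra (Localization.AtPrime q) (Localization.AtPrime q') := φ.toAlgebra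
  have halg : algebraMap (Localization.AtPrime q) (Localization.AtPrime q') = φ := rfl
  have tow : IsScalarTower A (Localization.AtPrime q) (Localization.AtPrime q') :=
    IsScalarTower.of_algebraMap_eq fun x => by
      rw [halg, Localization.localRingHom_to_map, ← IsScalarTower.algebraMap_apply]
  have hfl : Module.Flat (Localization.AtPrime q) (Localization.AtPrime q') := hφ
  have hloc : IsLocalHom (algebraMap (Localization.AtPrime q) (Localization.AtPrime q')) :=
    Localization.isLocalHom_localRingHom q q' _ h
  have hff : Module.FaithfullyFlat (Localization.AtPrime q) (Localization.AtPrime q') :=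
    Module.FaithfullyFlat.of_flat_of_isLocalHom
  have hmap : (I.map (algebraMap A (Localization.AtPrime q))).map
      (algebraMap (Localization.AtPrime q) (Localization.AtPrime q')) =
      (I.map (algebraMap A B)).map (algebraMap B (Localization.AtPrime q')) := by
    rw [Ideal.map_map, Ideal.map_map, ← IsScalarTower.algebraMap_eq,
      ← IsScalarTower.algebraMap_eq]
  refine ⟨alg, tow, ?_⟩
  refine Groth.Agent.CurvesB.EtaleCompl.exists_completion_ringEquiv
    (algebraMap (Localization.AtPrime q) (Localization.AtPrime q')) _ _ ?_ ?_ ?_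
  · rw [← Ideal.map_le_iff_le_comap, hmap]
  · intro n a ha
    rw [← hmap, ← Ideal.map_pow] at ha
    have h1 := Ideal.comap_map_eq_self_of_faithfullyFlat
      (A := Localization.AtPrime q) (B := Localization.AtPrime q')
      ((I.map (algebraMap A (Localization.AtPrime q))) ^ n)
    rw [← h1]
    exact ha
  · intro n b
    rcases Nat.eq_zero_or_pos n with rfl | hn
    · exact ⟨0, by simp⟩
    obtain ⟨x, s, rfl⟩ := IsLocalization.exists_mk'_eq q'.primeCompl b
    obtain ⟨a, ha⟩ := happ n x
    obtain ⟨t, ht⟩ := happ n (s : B)
    have htq' : algebraMap A B t ∉ q' := by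
      intro h2
      apply s.2
      have h3 : (s : B) - algebraMap A B t ∈ q' := hI (Ideal.pow_le_self (by omega) ht)
      have := q'.add_mem h3 h2
      rwa [sub_add_cancel] at this
    have htq : t ∉ q := by
      rw [h]
      exact htq'
    refine ⟨IsLocalization.mk' _ a (⟨t, htq⟩ : q.primeCompl), ?_⟩
    have e1 : algebraMap (Localization.AtPrime q) (Localization.AtPrime q')
        (IsLocalization.mk' _ a (⟨t, htq⟩ : q.primeCompl)) =
        IsLocalization.mk' _ (algebraMap A B a) (⟨algebraMap A B t, htq'⟩ : q'.primeCompl) := by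
      rw [halg]
      exact Localization.localRingHom_mk' q q' _ h a _
    rw [e1, ← IsLocalization.mk'_sub, IsLocalization.mk'_mem_iff, ← Ideal.map_pow]
    apply Ideal.mem_map_of_mem
    have e2 : x * (algebraMap A B t) - algebraMap A B a * (s : B) =
        (x - algebraMap A B a) * algebraMap A B t -
          algebraMap A B a * ((s : B) - algebraMap A B t) := by ring
    change x * (algebraMap A B t) - algebraMap A B a * (s : B) ∈ _
    rw [e2]
    exact Ideal.sub_mem _ (Ideal.mul_mem_right _ _ ha) (Ideal.mul_mem_left _ _ ht)

/-- base change along a bijective ring map is bijective -/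
theorem bijective_of_isBaseChange {C C' : Type u} [CommRing C] [CommRing C'] [Algebra C C']
    (hb : Function.Bijective (algebraMap C C')) {N N' : Type u} [AddCommGroup N] [Module C N]
    [AddCommGroup N'] [Module C N'] [Module C' N'] [IsScalarTower C C' N'] (g : N →ₗ[C] N')
    (hg : IsBaseChange C' g) : Function.Bijective g := by
  let e1 : C ≃ₗ[C] C' := LinearEquiv.ofBijective (Algebra.linearMap C C') hb
  let e2 : N ≃ₗ[C] C' ⊗[C] N := (TensorProduct.lid C N).symm ≪≫ₗ LinearEquiv.rTensor N e1
  have h : ∀ x, g x = hg.equiv (e2 x) := by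
    intro x
    have h1 : e2 x = (1 : C') ⊗ₜ[C] x := by
      simp [e2, e1]
    rw [h1, hg.equiv_tmul, one_smul]
  have h2 : (g : N → N') = (hg.equiv : C' ⊗[C] N → N') ∘ e2 := funext h
  rw [h2]
  exact hg.equiv.bijective.comp e2.bijective

/-- transport of the depth of a localization along a ring isomorphism -/
theorem depth_transport {C C' : Type u} [CommRing C] [CommRing C'] (e : C ≃+* C')
    {N : Type u} [AddCommGroup N] [Module C N] {N' : Type u} [AddCommGroup N'] [Module C' N']
    (ψ : N → N') (hadd : ∀ x y, ψ (x + y) = ψ x + ψ y) (hsmul : ∀ (c : C) (x : N), ψ (c • x) = e c • ψ x)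
    (hψ : Function.Bijective ψ) (p' : PrimeSpectrum C') :
    LocCoh.depth (Localization.AtPrime (PrimeSpectrum.comap (e : C →+* C') p').asIdeal)
      (LocalizedModule (PrimeSpectrum.comap (e : C →+* C') p').asIdeal.primeCompl N) =
    LocCoh.depth (Localization.AtPrime p'.asIdeal) (LocalizedModule p'.asIdeal.primeCompl N') := by
  let P : PrimeSpectrum C := PrimeSpectrum.comap (e : C →+* C') p'
  let L' := Localization.AtPrime p'.asIdeal
  let aL : Algebra C L' := ((algebraMap C' L').comp (e : C →+* C')).toAlgebra
  have haL : ∀ x, algebraMap C L' x = algebraMap C' L' (e x) := fun x => rfl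
  let mL : Module C (LocalizedModule p'.asIdeal.primeCompl N') :=
    Module.compHom _ (e : C →+* C')
  have hmL : ∀ (x : C) (y : LocalizedModule p'.asIdeal.primeCompl N'), x • y = e x • y :=
    fun x y => rfl
  have tL : IsScalarTower C L' (LocalizedModule p'.asIdeal.primeCompl N') :=
    IsScalarTower.of_algebraMap_smul fun r x => by
      rw [haL, algebraMap_smul, hmL]
  have hmem : ∀ x : C, x ∈ P.asIdeal.primeCompl ↔ e x ∈ p'.asIdeal.primeCompl := fun x => Iff.rfl
  have hmap : P.asIdeal.primeCompl.map (e : C →* C') = p'.asIdeal.primeCompl := by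
    ext y
    constructor
    · rintro ⟨x, hx, rfl⟩
      exact (hmem x).1 hx
    · intro hy
      refine ⟨e.symm y, ?_, e.apply_symm_apply y⟩
      exact (hmem _).2 (by rwa [e.apply_symm_apply])
  have h1 : IsLocalization.AtPrime L' P.asIdeal :=
    IsLocalization.of_ringEquiv_left (M₁ := p'.asIdeal.primeCompl) (M₂ := P.asIdeal.primeCompl)
      e hmap haL
  let f : N →ₗ[C] LocalizedModule p'.asIdeal.primeCompl N' :=
    { toFun := fun x => LocalizedModule.mkLinearMap p'.asIdeal.primeCompl N' (ψ x)
      map_add' := fun x y => by rw [hadd, map_add]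
      map_smul' := fun c x => by
        rw [hsmul, map_smul]
        rfl }
  have h2 : IsLocalizedModule P.asIdeal.primeCompl f := by
    refine ⟨fun x => ?_, fun y => ?_, fun {x₁ x₂} hx => ?_⟩
    · rw [Module.End.isUnit_iff]
      have hu := IsLocalizedModule.map_units
        (LocalizedModule.mkLinearMap p'.asIdeal.primeCompl N') (⟨e x, (hmem x).1 x.2⟩ :
          p'.asIdeal.primeCompl)
      rw [Module.End.isUnit_iff] at hu
      exact hu
    · obtain ⟨⟨z, s⟩, hz⟩ := IsLocalizedModule.surj p'.asIdeal.primeCompl
        (LocalizedModule.mkLinearMap p'.asIdeal.primeCompl N') y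
      obtain ⟨x, rfl⟩ := hψ.2 z
      refine ⟨(x, ⟨e.symm s, (hmem _).2 (by rw [e.apply_symm_apply]; exact s.2)⟩), ?_⟩
      refine Eq.trans ?_ hz
      exact congrArg (fun t : C' => t • y) (e.apply_symm_apply (s : C'))
    · obtain ⟨c, hc⟩ := IsLocalizedModule.exists_of_eq (S := p'.asIdeal.primeCompl)
        (f := LocalizedModule.mkLinearMap p'.asIdeal.primeCompl N') hx
      refine ⟨⟨e.symm c, (hmem _).2 (by rw [e.apply_symm_apply]; exact c.2)⟩, hψ.1 ?_⟩
      change ψ (e.symm (c : C') • x₁) = ψ (e.symm (c : C') • x₂)
      rw [hsmul, hsmul, e.apply_symm_apply]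
      exact hc
  exact (Groth.Agent.Ega4dB.DepthOpen.depth_eq_of_isLocalizedModule P.asIdeal N L' f).symm

/-- transport of depths along the isomorphism of completions -/
theorem depth_eq {R R' : Type u} [CommRing R] [CommRing R'] [IsNoetherianRing R]
    [IsNoetherianRing R'] [IsLocalRing R] [IsLocalRing R'] [Algebra R R'] (J : Ideal R) (J' : Ideal R')
    (e : AdicCompletion J R ≃+* AdicCompletion J' R')
    (he : ∀ a, e (algebraMap _ _ a) = algebraMap _ _ (algebraMap R R' a))
    {N N' : Type u} [AddCommGroup N] [Module R N] [Module.Finite R N] [AddCommGroup N']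
    [Module R N'] [Module R' N'] [IsScalarTower R R' N'] [Module.Finite R' N'] (g : N →ₗ[R] N')
    (hg : IsBaseChange R' g) (p' : PrimeSpectrum (AdicCompletion J' R')) :
    LocCoh.depth (Localization.AtPrime (PrimeSpectrum.comap (e : AdicCompletion J R →+*
        AdicCompletion J' R') p').asIdeal)
      (LocalizedModule (PrimeSpectrum.comap (e : AdicCompletion J R →+*
        AdicCompletion J' R') p').asIdeal.primeCompl (AdicCompletion J N)) =
    LocCoh.depth (Localization.AtPrime p'.asIdeal)
      (LocalizedModule p'.asIdeal.primeCompl (AdicCompletion J' N')) := by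
  let C := AdicCompletion J R
  let C' := AdicCompletion J' R'
  let aCC : Algebra C C' := (e : C →+* C').toAlgebra
  have haCC : algebraMap C C' = (e : C →+* C') := rfl
  have tRR : IsScalarTower R R' C' := inferInstance
  have tRC : IsScalarTower R C C' := IsScalarTower.of_algebraMap_eq fun x => by
    rw [haCC]
    change _ = e (algebraMap R C x)
    rw [he, IsScalarTower.algebraMap_apply R R' C']
  let mC : Module C (AdicCompletion J' N') := Module.compHom _ (e : C →+* C')
  have tC : IsScalarTower C C' (AdicCompletion J' N') :=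
    IsScalarTower.of_algebraMap_smul fun r x => rfl
  have tN1 : IsScalarTower R R' (AdicCompletion J' N') := inferInstance
  have tN2 : IsScalarTower R' C' (AdicCompletion J' N') := inferInstance
  have tN3 : IsScalarTower R C' (AdicCompletion J' N') :=
    IsScalarTower.of_algebraMap_smul fun r x => by
      rw [IsScalarTower.algebraMap_apply R R' C', algebraMap_smul, algebraMap_smul]
  have tN4 : IsScalarTower R C (AdicCompletion J' N') :=
    IsScalarTower.of_algebraMap_smul fun r x => by
      rw [← algebraMap_smul C' (algebraMap R C r) x, ← IsScalarTower.algebraMap_apply R C C',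
        algebraMap_smul]
  have hf1 := Groth.Agent.Sga2lef.H106.Local.isBaseChange_cp J N
  have hf2 := Groth.Agent.Sga2lef.H106.Local.isBaseChange_cp J' N'
  have hf3 : IsBaseChange C' ((AdicCompletion.of J' N').restrictScalars R ∘ₗ g) :=
    IsBaseChange.comp hg hf2
  let ψ : AdicCompletion J N →ₗ[C] AdicCompletion J' N' :=
    hf1.lift ((AdicCompletion.of J' N').restrictScalars R ∘ₗ g)
  have hψ1 : (ψ.restrictScalars R) ∘ₗ (AdicCompletion.of J N) =
      (AdicCompletion.of J' N').restrictScalars R ∘ₗ g := by
    ext x : 1
    exact hf1.lift_eq _ x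
  have hψ : IsBaseChange C' ψ := by
    refine IsBaseChange.of_comp hf1 ?_
    rw [show (ψ : AdicCompletion J N →ₗ[R] AdicCompletion J' N') ∘ₗ (AdicCompletion.of J N) =
      (AdicCompletion.of J' N').restrictScalars R ∘ₗ g from hψ1]
    exact hf3
  have hbij := bijective_of_isBaseChange (C := C) (C' := C') e.bijective ψ hψ
  exact depth_transport e ψ (map_add ψ) (map_smul ψ) hbij p'

end Gen

section Six

variable {A : Type u} [CommRing A] [IsNoetherianRing A] (I : Ideal A)

theorem happ (n : ℕ) (b : AdicCompletion I A) : ∃ a : A, b - algebraMap A (AdicCompletion I A) a ∈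
    (I.map (algebraMap A (AdicCompletion I A))) ^ n := by
  obtain ⟨a, ha⟩ := Groth.Agent.UnramA.AdicEquiv.exists_algebraMap_sub_mem_map_pow
    (I := I) I.fg_of_isNoetherianRing n b
  exact ⟨a, by rw [← neg_sub]; exact Ideal.neg_mem_iff _ |>.2 ha⟩

theorem isBaseChange_of (M : Type u) [AddCommGroup M] [Module A M] [Module.Finite A M] :
    IsBaseChange (AdicCompletion I A) (AdicCompletion.of I M) := by
  refine IsBaseChange.of_equiv (AdicCompletion.ofTensorProductEquivOfFiniteNoetherian I M) ?_
  intro x
  rw [AdicCompletion.ofTensorProductEquivOfFiniteNoetherian_apply,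
    AdicCompletion.ofTensorProduct_tmul, one_smul]

/-- condition (6) for the completed data -/
theorem six (M : Type u) [AddCommGroup M] [Module A M] [Module.Finite A M]
    (s : ℕ) (q : PrimeSpectrum (AdicCompletion I A))
    (hIq : I.map (algebraMap A (AdicCompletion I A)) ≤ q.asIdeal)
    (h6 : ∀ p' : PrimeSpectrum (AdicCompletion (I.map (algebraMap A (Localization.AtPrime (PrimeSpectrum.comap (algebraMap A (AdicCompletion I A)) q).asIdeal))) (Localization.AtPrime (PrimeSpectrum.comap (algebraMap A (AdicCompletion I A)) q).asIdeal)), ¬ (I.map (algebraMap A (AdicCompletion (I.map (algebraMap A (Localization.AtPrime (PrimeSpectrum.comap (algebraMap A (AdicCompletion I A)) q).asIdeal))) (Localization.AtPrime (PrimeSpectrum.comap (algebraMap A (AdicCompletion I A)) q).asIdeal)))) ≤ p'.asIdeal → (∀ q' : PrimeSpectrum (AdicCompletion (I.map (algebraMap A (Localization.AtPrime (PrimeSpectrum.comap (algebraMap A (AdicCompletion I A)) q).asIdeal))) (Localization.AtPrime (PrimeSpectrum.comap (algebraMap A (AdicCompletion I A)) q).asIdeal)), p' ≤ q' → (I.map (algebraMap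 A (AdicCompletion (I.map (algebraMap A (Localization.AtPrime (PrimeSpectrum.comap (algebraMap A (AdicCompletion I A)) q).asIdeal))) (Localization.AtPrime (PrimeSpectrum.comap (algebraMap A (AdicCompletion I A)) q).asIdeal)))) ≤ q'.asIdeal → q'.asIdeal.IsMaximal) → (s : ℕ∞) < LocCoh.depth (Localization.AtPrime p'.asIdeal) (LocalizedModule p'.asIdeal.primeCompl (AdicCompletion (I.map (algebraMap A (Localization.AtPrime (PrimeSpectrum.comap (algebraMap A (AdicCompletion I A)) q).asIdeal))) (LocalizedModule (PrimeSpectrum.comap (algebraMap A (AdicCompletion I A)) q).asIdeal.primeCompl M))))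
    (p' : PrimeSpectrum (AdicCompletion ((I.map (algebraMap A (AdicCompletion I A))).map (algebraMap (AdicCompletion I A) (Localization.AtPrime q.asIdeal))) (Localization.AtPrime q.asIdeal)))
    (hp' : ¬ ((I.map (algebraMap A (AdicCompletion I A))).map (algebraMap (AdicCompletion I A) (AdicCompletion ((I.map (algebraMap A (AdicCompletion I A))).map (algebraMap (AdicCompletion I A) (Localization.AtPrime q.asIdeal))) (Localization.AtPrime q.asIdeal)))) ≤ p'.asIdeal)
    (hmax : ∀ q' : PrimeSpectrum (AdicCompletion ((I.map (algebraMap A (AdicCompletion I A))).map (algebraMap (AdicCompletion I A) (Localization.AtPrime q.asIdeal))) (Localization.AtPrime q.asIdeal)), p' ≤ q' → ((I.map (algebraMap A (AdicCompletion I A))).map (algebraMap (AdicCompletion I A) (AdicCompletion ((I.map (algebraMap A (AdicCompletion I A))).map (algebraMap (AdicCompletion I A) (Localization.AtPrime q.asIdeal))) (Localization.AtPrime q.asIdeal)))) ≤ q'.asIdeal → q'.asIdeal.IsMaximal) :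
    (s : ℕ∞) < LocCoh.depth (Localization.AtPrime p'.asIdeal) (LocalizedModule p'.asIdeal.primeCompl (AdicCompletion ((I.map (algebraMap A (AdicCompletion I A))).map (algebraMap (AdicCompletion I A) (Localization.AtPrime q.asIdeal))) (LocalizedModule q.asIdeal.primeCompl (AdicCompletion I M)))) := by
  have hflat : Module.Flat A (AdicCompletion I A) := AdicCompletion.flat_of_isNoetherian I
  have hN : IsNoetherianRing (AdicCompletion I A) :=
    Groth.Agent.Ega4A.CompleteNoeth.isNoetherianRing_adicCompletion I
  obtain ⟨alg, tow, e, he⟩ := exists_ringEquiv I (happ I)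
    (PrimeSpectrum.comap (algebraMap A (AdicCompletion I A)) q).asIdeal q.asIdeal rfl hIq
  have hfin : Module.Finite (AdicCompletion I A) (AdicCompletion I M) :=
    Module.Finite.equiv (isBaseChange_of I M).equiv
  obtain ⟨m1, t1, g, hg⟩ := exists_localized
    (PrimeSpectrum.comap (algebraMap A (AdicCompletion I A)) q).asIdeal q.asIdeal rfl
    (AdicCompletion.of I M) (isBaseChange_of I M)
  rw [← depth_eq _ _ e he g hg p']
  have hkey : ∀ x : A, e (algebraMap A _ x) = algebraMap (AdicCompletion I A) _
      (algebraMap A (AdicCompletion I A) x) := by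
    intro x
    rw [IsScalarTower.algebraMap_apply A (Localization.AtPrime (PrimeSpectrum.comap
      (algebraMap A (AdicCompletion I A)) q).asIdeal) (AdicCompletion (I.map (algebraMap A
        (Localization.AtPrime (PrimeSpectrum.comap (algebraMap A (AdicCompletion I A)) q).asIdeal)))
        (Localization.AtPrime (PrimeSpectrum.comap (algebraMap A (AdicCompletion I A)) q).asIdeal)),
      he, ← IsScalarTower.algebraMap_apply A (Localization.AtPrime (PrimeSpectrum.comap
      (algebraMap A (AdicCompletion I A)) q).asIdeal) (Localization.AtPrime q.asIdeal),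
      IsScalarTower.algebraMap_apply A (AdicCompletion I A) (Localization.AtPrime q.asIdeal),
      ← IsScalarTower.algebraMap_apply (AdicCompletion I A) (Localization.AtPrime q.asIdeal)]
  refine h6 _ ?_ ?_
  · intro h
    apply hp'
    rw [Ideal.map_le_iff_le_comap, Ideal.map_le_iff_le_comap] at *
    intro x hx
    have := h hx
    rw [Ideal.mem_comap] at this ⊢
    rw [Ideal.mem_comap, ← hkey]
    exact this
  · intro Q hQ hIQ
    let Q' := PrimeSpectrum.comap e.symm.toRingHom Q
    have hQ' : Q = PrimeSpectrum.comap e.toRingHom Q' := by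
      apply PrimeSpectrum.ext
      ext x
      change x ∈ Q.asIdeal ↔ e.symm (e x) ∈ Q.asIdeal
      rw [e.symm_apply_apply]
    have h1 : Q'.asIdeal.IsMaximal := by
      refine hmax Q' ?_ ?_
      · intro x hx
        change e.symm x ∈ Q.asIdeal
        apply hQ
        change e (e.symm x) ∈ p'.asIdeal
        rwa [e.apply_symm_apply]
      · rw [Ideal.map_le_iff_le_comap, Ideal.map_le_iff_le_comap]
        intro x hx
        rw [Ideal.mem_comap, Ideal.mem_comap, ← hkey]
        change e.symm (e _) ∈ Q.asIdeal
        rw [e.symm_apply_apply]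
        exact hIQ (Ideal.mem_map_of_mem _ hx)
    rw [hQ']
    exact Ideal.comap_isMaximal_of_equiv e

end Six

end K710.CplLoc
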