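import Groth.Agent.Dual2.K366.Boot

/-!
# Mittag-Leffler for `H^i_T(M/I^nM)` from pro-vanishing of `H^{i+1}_T(I^nM)`
-/

set_option autoImplicit false
universe u

open CategoryTheory
open Groth.Agent.LoccohA Groth.Agent.LoccohA.LCTComp
open Groth.Agent.FormalA.KLim Groth.Agent.Sga2lef.H106

attribute [local instance] HasDerivedCategory.standard

namespace K710.ML

variable {A : Type u} [CommRing A] (T : Set (PrimeSpectrum A)) (i : ℕ)

/-- `δ x` killed ⇒ the image in `H^i_T(M/Q)` comes from `H^i_T(M)` -/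
theorem exists_of_zero {M : Type u} [AddCommGroup M] [Module A M] {P Q : Submodule A M}
    (h : P ≤ Q) (hz : ∀ y : Final.G T (i + 1) P, Final.Gm T (i + 1) (Submodule.inclusion h) y = 0)
    (x : Dual2.HT T i (M ⧸ P)) :
    ∃ y : Dual2.HT T i M, HTmap T i Q.mkQ y = HTmap T i (Final.trP h) x := by
  have h1 : Final.Gδ T i Q (Final.Gm T i (Final.trP h) (HTequiv T i _ x)) = 0 := by
    rw [← Final.Gδ_naturality, hz]
  obtain ⟨y, hy⟩ := Final.ex₃ T i Q _ h1
  refine ⟨(HTequiv T i M).symm y, ?_⟩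
  apply (HTequiv T i (M ⧸ Q)).injective
  rw [HTequiv_map, HTequiv_map, LinearEquiv.apply_symm_apply]
  exact hy

theorem HTmap_comp {M N L : Type u} [AddCommGroup M] [Module A M] [AddCommGroup N] [Module A N]
    [AddCommGroup L] [Module A L] (f : M →ₗ[A] N) (g : N →ₗ[A] L) (h : M →ₗ[A] L)
    (hh : g ∘ₗ f = h) (x : Dual2.HT T i M) :
    HTmap T i h x = HTmap T i g (HTmap T i f x) :=
  K366.Boot.HT_map_comp T i f g h hh x

theorem zero_trans {M : Type u} [AddCommGroup M] [Module A M] {P P' Q Q' : Submodule A M}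
    (hP : P = P') (hPQ : P ≤ Q) (hQ : Q ≤ Q') (h : P' ≤ Q')
    (hz : ∀ y : Final.G T i P, Final.Gm T i (Submodule.inclusion hPQ) y = 0)
    (y : Final.G T i P') : Final.Gm T i (Submodule.inclusion h) y = 0 := by
  subst hP
  refine (Final.Gm_comp T i (Submodule.inclusion hPQ) (Submodule.inclusion hQ) y).trans ?_
  rw [hz, map_zero]

theorem range_eq {M : Type u} [AddCommGroup M] [Module A M] {L K Q : Submodule A M}
    (hLK : L ≤ K) (hKQ : K ≤ Q) (hLQ : L ≤ Q)
    (hz : ∀ y : Final.G T (i + 1) K, Final.Gm T (i + 1) (Submodule.inclusion hKQ) y = 0) :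
    Set.range (HTmap T i (Final.trP hLQ)) = Set.range (HTmap T i (Final.trP hKQ)) := by
  apply Set.Subset.antisymm
  · rintro _ ⟨x, rfl⟩
    refine ⟨HTmap T i (Final.trP hLK) x, ?_⟩
    exact (HTmap_comp T i (Final.trP hLK) (Final.trP hKQ)
      (Final.trP hLQ) (by ext x; rfl) x).symm
  · rintro _ ⟨x, rfl⟩
    obtain ⟨y, hy⟩ := exists_of_zero T i hKQ hz x
    refine ⟨HTmap T i L.mkQ y, ?_⟩
    refine Eq.trans ?_ hy
    exact (HTmap_comp T i L.mkQ (Final.trP hLQ) Q.mkQ (by ext x; rfl) y).symm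

/-- Mittag-Leffler for `H^i_T(M/I^nM)` -/
theorem isML (I : Ideal A) (M : Type u) [AddCommGroup M] [Module A M] (n : ℕ)
    (hz : ∃ (m : ℕ) (h : n ≤ m), ∀ y : Final.G T (i + 1) (fil I M m),
      Final.Gm T (i + 1) (Submodule.inclusion (fil_antitone I M h)) y = 0) :
    ∃ (k : ℕ) (hk : n ≤ k), ∀ (l : ℕ) (hl : k ≤ l),
      Set.range ((localCohomology.ofDiagram (Dual2.idealsInDiagram T) i).map (ModuleCat.ofHom
        (AdicCompletion.transitionMap I M (hk.trans hl : n ≤ l)))).hom =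
        Set.range ((localCohomology.ofDiagram (Dual2.idealsInDiagram T) i).map (ModuleCat.ofHom
          (AdicCompletion.transitionMap I M hk))).hom := by
  obtain ⟨m, h, hm⟩ := hz
  have hk : n ≤ m + 1 := by omega
  have hle : ∀ {a b : ℕ} (_ : a ≤ b), (I ^ b • (⊤ : Submodule A M) : Submodule A M) ≤
      (I ^ a • (⊤ : Submodule A M) : Submodule A M) := fun hab =>
    Submodule.smul_mono_left (Ideal.pow_le_pow_right hab)
  have htr : ∀ {a b : ℕ} (hab : a ≤ b), AdicCompletion.transitionMap I M hab =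
      Final.trP (hle hab) := by
    intro a b hab
    ext x
    rfl
  refine ⟨m + 1, hk, fun l hl => ?_⟩
  rw [htr, htr]
  exact range_eq T i (hle hl) (hle hk) (hle (hk.trans hl))
    (zero_trans T (i + 1) (Q := fil I M n) (P := fil I M m) rfl (fil_antitone I M h)
      (hle (Nat.le_succ n)) (hle hk) hm)

end K710.ML
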